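import Cfsg.Agent.MQ.Loc.Om
import Cfsg.Agent.MK.C.Main_m3
import Cfsg.Agent.MQ.A.Glob.Main
import Cfsg.Agent.H672.RM.Final
import Cfsg.Agent.H676.RM.Central
import Cfsg.Agent.MK.S5.Mov_m3
import Cfsg.Agent.FastGrp
import Cfsg.Agent.Prune
set_option linter.all false
prune_inst 0x7f00000000000000000000000000000000000000000000000000000000000000000000000000000000000000000000000000000000000000000000000000000000000000000000000000000000000000003fffffffffffffffffffffffffffbeffbdffffffff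
open scoped Cfsg.Agent.FastGrp

-- part: MO/C/Main
section
/-!
# MO, step C: `stepC : StepC` (helper76, from `MK`)

The families `ϑ : ι → SA p Λ l` index the characters of `Z × (ι → X)` and of `Z × (ι → In Λ)` under the `p'`-characters of
`G` and of `hat Λ`. For a family with the stabiliser `T` the characters given by `ExtOn` are tensor induced to the group
`(Z × (ι → X)) ⋊ T`, and the pair lemma applies.
-/

set_option autoImplicit false
set_option maxHeartbeats 400000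
set_option linter.unusedSectionVars false

namespace Cfsg.Agent.MO.C

open Cfsg Subgroup
open Cfsg.Agent.Characters.Core Cfsg.Agent.H672 Cfsg.Agent.MO.H
open Cfsg.Agent.MK (Ov Fa Cj In Nm St rs Supp conj_map)
open Cfsg.Agent.MK.H (finite_sub)
open Cfsg.Agent.MK.C (Nr Th Th_one Th_single Th_irr Th_deg Th_inj tensor index_comap_eq)
open scoped ComplexConjugate

variable {p : ℕ} {X : Type} [Group X] {Γ Λ : Subgroup (MulAut X)} {G : Type} [Group G] {Z : Subgroup G} {ι : Type}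
  (c : Conf p Γ G Z ι)

/-- the side of `G` -/
def sA (hX : ∃ x y : X, x * y ≠ y * x) : Side c (c.hat Γ) X where
  ρ := MonoidHom.id X
  inj := Function.injective_id
  b u i := c.a u i
  hb _ _ _ := rfl
  mem g _ _ i := c.mem g i
  sup _ _ _ x _ := ⟨x, rfl⟩
  nc := hX

variable (Λ) in
/-- the side of `hat Λ` -/
def sB (hX : ∃ x y : X, x * y ≠ y * x) : Side c (c.hat Λ) (In Λ) where
  ρ := (In Λ).subtype
  inj := Subtype.val_injective
  b u i := rs Λ ⟨c.a u i, u.2 i⟩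
  hb _ _ _ := rfl
  mem g _ h i := by
    obtain ⟨y, hy⟩ := h i
    rw [hy]
    exact y.2
  sup u hu i x h := ⟨⟨x, show MulAut.conj x ∈ Λ from h ▸ hu i⟩, rfl⟩
  nc := hX

/-- the action on the product -/
def act : G →* MulAut (Z × (ι → X)) :=
  MonoidHom.mk' (fun g =>
    { toFun := fun d => (d.1, fun k => c.a g ((c.π g).symm k) (d.2 ((c.π g).symm k)))
      invFun := fun d => (d.1, fun i => (c.a g i)⁻¹ (d.2 (c.π g i)))
      left_inv := fun d => by simp
      right_inv := fun d => by simp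
      map_mul' := fun d e => Prod.ext rfl (funext fun k => map_mul _ _ _) }) fun g h => by
    refine MulEquiv.ext fun d => Prod.ext rfl (funext fun k => ?_)
    obtain ⟨k, rfl⟩ := (c.π (g * h)).surjective k
    change c.a (g * h) ((c.π (g * h)).symm (c.π (g * h) k)) (d.2 ((c.π (g * h)).symm (c.π (g * h) k))) =
      c.a g ((c.π g).symm (c.π (g * h) k)) (c.a h ((c.π h).symm ((c.π g).symm (c.π (g * h) k)))
        (d.2 ((c.π h).symm ((c.π g).symm (c.π (g * h) k)))))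
    rw [Equiv.symm_apply_apply, map_mul, Equiv.Perm.mul_apply, Equiv.symm_apply_apply, Equiv.symm_apply_apply, c.a_mul,
      MulAut.mul_apply]

theorem act_snd (g : G) (d : Z × (ι → X)) (i : ι) : (act c g d).2 (c.π g i) = c.a g i (d.2 i) := by
  change c.a g ((c.π g).symm (c.π g i)) (d.2 ((c.π g).symm (c.π g i))) = _
  rw [Equiv.symm_apply_apply]

theorem a_pow {g : G} {i : ι} (h : c.π g i = i) (n : ℕ) : c.π (g ^ n) i = i ∧ c.a (g ^ n) i = c.a g i ^ n := by
  induction n with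
  | zero => rw [pow_zero, pow_zero, map_one, c.a_one]; exact ⟨rfl, rfl⟩
  | succ n ih => rw [pow_succ, pow_succ, map_mul, Equiv.Perm.mul_apply, c.a_mul, h, ih.1, ih.2]; exact ⟨rfl, rfl⟩

variable [Fintype ι]

/-- a `p`-element of `Λ` is induced by a `p`-element -/
theorem exists_p [Fact p.Prime] [Finite G] (h : Supp Γ Λ) (i : ι) {α : MulAut X} (hα : α ∈ Λ) {k : ℕ} (hk : α ^ p ^ k = 1) :
    ∃ g ∈ c.hat Λ, c.π g i = i ∧ c.a g i = α ∧ ∃ j : ℕ, g ^ p ^ j = 1 := by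
  obtain ⟨g, h1, h2, h3⟩ := exists_hat c h i i hα
  obtain ⟨j, t, ht, e⟩ := exists_split p (orderOf_pos g).ne'
  obtain ⟨r, hr⟩ := exists_pow_eq_self_of_coprime (x := α) (n := t)
    ((cop_pow ht k).symm.coprime_dvd_right (orderOf_dvd_of_pow_eq_one hk))
  refine ⟨g ^ (t * r), pow_mem h1 _, (a_pow c h2 _).1, by rw [(a_pow c h2 _).2, h3, pow_mul, hr], j, ?_⟩
  rw [← pow_mul, mul_right_comm, mul_comm t, ← e, pow_mul, pow_orderOf_eq_one, one_pow]

theorem decomp (h : Supp Γ Λ) (g : G) : ∃ w : ι → X, ∃ u ∈ c.hat Λ, g = pr c w * u := by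
  choose x β hβ e using fun i => h.sup _ (c.mem g i)
  refine ⟨fun k => x ((c.π g).symm k), pr c (fun k => x ((c.π g).symm k))⁻¹ * g, fun i => ?_, by
    rw [map_inv, mul_inv_cancel_left]⟩
  rw [a_pr_mul, Pi.inv_apply, Equiv.symm_apply_apply, e, map_inv, inv_mul_cancel_left]
  exact hβ i

theorem SA_comp [Finite X] (s : Sit p X Γ) (h : Λ ≤ Γ) {l θ : X → ℂ} (hθ : θ ∈ SA p Λ l) {α : MulAut X} (hα : α ∈ Λ) :
    (fun x => θ (α x)) ∈ SA p Λ l := by
  refine ⟨hθ.1.comp α.toMonoidHom α.surjective, fun z hz => ?_, fun β hβ ⟨k, hk⟩ x => ?_⟩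
  · change θ (α z) = l z * θ (α 1)
    rw [s.fix α (h hα) z hz, map_one, hθ.2.1 z hz]
  · have h1 := hθ.2.2 (α * β * α⁻¹) (mul_mem (mul_mem hα hβ) (inv_mem hα)) ⟨k, by rw [conj_pow, hk]; simp⟩ (α x)
    simpa using h1

section fam

variable [Finite X] [Finite G] {c} (s : Sit p X Γ) (h : Supp Γ Λ) {l : X → ℂ} {Ω : (X → ℂ) → In Λ → ℂ} (o : CD p Λ l Ω)
  {ϑ ϑ' : ι → X → ℂ}

theorem decomp' (hX : ∃ x y : X, x * y ≠ y * x) (h : Supp Γ Λ) (g : c.hat Γ) :
    ∃ d, ∃ u : c.hat Λ, g = (sA c hX).f d * inclusion (hat_mono c h.le) u := by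
  obtain ⟨w, u, hu, e⟩ := decomp c h g
  exact ⟨(1, w), ⟨u, hu⟩, Subtype.ext (e.trans (congrArg (· * u) (one_mul _).symm))⟩

include o in
theorem cj_om (hX : ∃ x y : X, x * y ≠ y * x) (h : Λ ≤ Γ) (hϑ : ∀ i, ϑ i ∈ SA p Λ l) (u : c.hat Λ) :
    (sB Λ c hX).cj u (fun i => Ω (ϑ i)) = fun i => Ω ((sA c hX).cj (inclusion (hat_mono c h) u) ϑ i) :=
  funext fun i => funext fun y => (o.eqv _ (hϑ _) ⟨c.a u i, u.2 i⟩ y).symm

include s o in
theorem cj_iff (hX : ∃ x y : X, x * y ≠ y * x) (h : Λ ≤ Γ) (hϑ : ∀ i, ϑ i ∈ SA p Λ l) (hϑ' : ∀ i, ϑ' i ∈ SA p Λ l)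
    (u : c.hat Λ) : (fun i => Ω (ϑ' i)) = (sB Λ c hX).cj u (fun i => Ω (ϑ i)) ↔
      ϑ' = (sA c hX).cj (inclusion (hat_mono c h) u) ϑ := by
  rw [cj_om o hX h hϑ]
  exact ⟨fun e => funext fun i => o.bij.injOn (hϑ' i) (SA_comp s h (hϑ _) (u.2 i)) (congrFun e i), fun e => by rw [e]⟩

include s h o in
/-- the counts over a family -/
theorem fibre [Fact p.Prime] (hX : ∃ x y : X, x * y ≠ y * x) (m : Z →* ℂˣ) (hϑ : ∀ i, ϑ i ∈ SA p Λ l) :
    Nat.card {χ : c.hat Γ → ℂ // PI p _ χ ∧ Over (sA c hX).f χ (Th m ϑ)} =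
      Nat.card {η : c.hat Λ → ℂ // PI p _ η ∧ Over (sB Λ c hX).f η (Th m fun i => Ω (ϑ i))} := by
  classical
  have hi : ∀ i, IsIrrCharacter X (ϑ i) := fun i => (hϑ i).1.1
  have hi' : ∀ i, IsIrrCharacter (In Λ) (Ω (ϑ i)) := fun i => (o.bij.mapsTo (hϑ i)).1.1
  let A := sA c hX
  let B := sB Λ c hX
  let ic : c.hat Λ →* c.hat Γ := inclusion (hat_mono c h.le)
  let T : Subgroup (c.hat Λ) := B.st fun i => Ω (ϑ i)
  have hT : ∀ u, u ∈ T ↔ ic u ∈ A.st ϑ := fun u => eq_comm.trans ((cj_iff s o hX h.le hϑ hϑ u).trans eq_comm)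
  let φ : T →* MulAut (Z × (ι → X)) := (act c).comp ((c.hat Λ).subtype.comp T.subtype)
  let F := (Z × (ι → X)) ⋊[φ] T
  have : Finite F := Finite.of_equiv _ SemidirectProduct.equivProd.symm
  let pp : F →* c.hat Γ := SemidirectProduct.lift A.f (ic.comp T.subtype) fun u =>
    MonoidHom.ext fun d => A.nr (ic u) d
  let q : F →* c.hat Λ := T.subtype.comp SemidirectProduct.rightHom
  let j : Z × (ι → In Λ) →* Z × (ι → X) := (MonoidHom.id Z).prodMap ((In Λ).subtype.compLeft ι)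
  have hj : ∀ e, A.f (j e) = ic (B.f e) := fun e => rfl
  have hj' : ∀ e d, act c (B.f e) d = j e * d * (j e)⁻¹ := fun e d => by
    refine Prod.ext ?_ (funext fun i => ?_)
    · refine Subtype.ext ?_
      change (d.1 : G) = e.1 * d.1 * (e.1 : G)⁻¹
      rw [mem_center_iff.1 (c.cen d.1.2), mul_inv_cancel_right]
    · have h1 := act_snd c (B.f e) d i
      rw [B.f_coe, B.π_q, B.a_q] at h1
      exact h1
  let t : Z × (ι → In Λ) →* F := MonoidHom.mk' (fun e => ⟨(j e)⁻¹, ⟨B.f e, B.cj_f hi' e⟩⟩) fun e e' => by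
    refine SemidirectProduct.ext ?_ (Subtype.ext (map_mul _ _ _))
    change (j (e * e'))⁻¹ = (j e)⁻¹ * act c (B.f e) (j e')⁻¹
    rw [hj', map_mul]
    group
  have e1 : pp.comp SemidirectProduct.inl = A.f := SemidirectProduct.lift_comp_inl _ _ _
  have e2 : q.comp t = B.f := rfl
  have r1 : pp.range = A.st ϑ := by
    refine le_antisymm ?_ fun a ha => ?_
    · rintro _ ⟨x, rfl⟩
      exact mul_mem (A.cj_f hi x.left) ((hT _).1 x.right.2)
    · obtain ⟨d, u, rfl⟩ := decomp' hX h a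
      exact ⟨⟨d, ⟨u, (hT u).2 ((mul_mem_cancel_left (A.cj_f hi d)).1 ha)⟩⟩, rfl⟩
  have r2 : q.range = T := le_antisymm (by rintro _ ⟨x, rfl⟩; exact x.right.2) fun u hu => ⟨⟨1, ⟨u, hu⟩⟩, rfl⟩
  have r3 : T.index = (A.st ϑ).index := by
    rw [← index_comap_eq ic (A.st ϑ) fun a => by
      obtain ⟨d, u, e⟩ := decomp' hX h a
      exact ⟨_, A.cj_f hi d, u, e⟩]
    congr 1
    exact Subgroup.ext hT
  -- representatives
  let S : Setoid ι := ⟨fun i k => ∃ β ∈ Λ, ∀ x, ϑ i x = ϑ k (β x), ⟨fun i => ⟨1, one_mem _, fun _ => rfl⟩,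
    fun ⟨β, h1, h2⟩ => ⟨β⁻¹, inv_mem h1, fun x => by rw [h2, MulAut.apply_inv_self]⟩,
    fun ⟨β, h1, h2⟩ ⟨γ, h3, h4⟩ => ⟨γ * β, mul_mem h3 h1, fun x => by rw [h2, h4, MulAut.mul_apply]⟩⟩⟩
  let r : ι → ι := fun i => (Quotient.mk S i).out
  choose β hβ hβ' using fun i => (Quotient.mk_out (s := S) i : ∃ β ∈ Λ, ∀ x, ϑ (r i) x = ϑ i (β x))
  have hβ'' : ∀ i (y : In Λ), Ω (ϑ (r i)) y = Ω (ϑ i) (rs Λ ⟨β i, hβ i⟩ y) := fun i y => by
    rw [← o.eqv _ (hϑ i), ← funext (hβ' i)]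
  have hu : ∀ (u : T) i x, ϑ (c.π (u : c.hat Λ) i) (c.a (u : c.hat Λ) i x) = ϑ i x := fun u i x =>
    congrFun (congrFun ((hT _).1 u.2) i) x
  let π : F →* Equiv.Perm ι := c.π.comp ((c.hat Λ).subtype.comp q)
  have hr : ∀ f i, r (π f i) = r i := fun f i =>
    congrArg Quotient.out (Quotient.sound (S.symm ⟨_, f.right.1.2 i, fun x => (hu f.right i x).symm⟩))
  choose W iW jW tW Ψ hΨ k1 k2 k3 using fun i => o.ext _ (hϑ i)
  let tW' : ∀ i, MulAut X → W i := fun i α => if hα : α ∈ St Λ (ϑ i) then tW i ⟨α, hα⟩ else 1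
  let γ : F → ι → MulAut X := fun f i => (β (π f i))⁻¹ * c.a (f.right : c.hat Λ) i * β i
  have hγ : ∀ f i, γ f i ∈ St Λ (ϑ (r i)) := fun f i =>
    ⟨mul_mem (mul_mem (inv_mem (hβ _)) (f.right.1.2 i)) (hβ _), fun x => by
      conv_lhs => rw [← hr f i, hβ']
      rw [hβ', ← hu f.right i (β i x)]
      simp only [γ, MulAut.mul_apply, MulAut.apply_inv_self]
      rfl⟩
  obtain ⟨Φ, hΦ, hΦ'⟩ := tensor π r hr W Ψ hΨ
    (fun a f i => jW a ((β (π f i))⁻¹ (f.left.2 (π f i)), 1) * tW' a (γ f i)) (fun a f g i ha => by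
      subst ha
      have g1 : γ (f * g) i = γ f (π g i) * γ g i := by
        have g0 : c.a ((f * g).right : c.hat Λ) i =
            c.a (f.right : c.hat Λ) (π g i) * c.a (g.right : c.hat Λ) i := c.a_mul _ _ i
        simp only [γ, map_mul, Equiv.Perm.mul_apply, g0]
        group
      have g2 : (f * g).left.2 (π (f * g) i) =
          f.left.2 (π f (π g i)) * c.a (f.right : c.hat Λ) (π g i) (g.left.2 (π g i)) := by
        rw [map_mul, Equiv.Perm.mul_apply, ← act_snd]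
        rfl
      have m1 := hγ (f * g) i
      have m2 := hγ f (π g i)
      have m3 := hγ g i
      rw [hr] at m2
      simp only [tW', dif_pos m1, dif_pos m2, dif_pos m3]
      rw [mul_assoc, ← mul_assoc (tW _ _), k2 (r i) ⟨_, m2⟩ _ 1 1 (map_one _).symm, mul_assoc, ← map_mul, ← mul_assoc,
        ← map_mul, g2]
      congr 2
      · simp only [γ, map_mul, Equiv.Perm.mul_apply, Prod.mk_mul_mk, mul_one, MulAut.mul_apply, MulAut.apply_inv_self]
      · exact Subtype.ext g1)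
  let z : F →* Z := MonoidHom.mk' (fun f => f.left.1) fun _ _ => rfl
  rw [← e1, ← e2]
  refine pair pp q SemidirectProduct.inl t ?_ ?_ (φ := A.φ) (φ' := B.φ) (e1 ▸ A.nr) B.nr (Th_irr m hi) (Th_irr m hi')
    (fun a => by rw [r1, A.mem_st m hi]) (fun b => by rw [r2, ← B.mem_st m hi']) (Ψ := lf m ∘ z * Φ)
    (isCharacter_mul (isCharacter_comp z (isCharacter_lf m)) hΦ) (fun d => ?_) (fun e => ?_) ?_
  · rw [SemidirectProduct.range_inl_eq_ker_rightHom]
    ext x
    exact Subtype.ext_iff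
  · refine le_antisymm ?_ fun x hx => ?_
    · rintro _ ⟨e, rfl⟩
      change A.f (j e)⁻¹ * ic (B.f e) = 1
      rw [map_inv, hj, inv_mul_cancel]
    · have h1 : ic x.right = A.f x.left⁻¹ := by
        rw [map_inv]
        exact eq_inv_of_mul_eq_one_right hx
      have h2 : ∀ i, (x.left⁻¹).2 i ∈ In Λ := fun i => by
        have h3 := x.right.1.2 i
        rw [show ((x.right : c.hat Λ) : G) = A.q x.left⁻¹ from congrArg Subtype.val h1, A.a_q] at h3
        exact h3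
      exact ⟨((x.left⁻¹).1, fun i => ⟨_, h2 i⟩), SemidirectProduct.ext (inv_inv _)
        (Subtype.ext (Subtype.ext (congrArg Subtype.val h1).symm))⟩
  · have p1 : π (SemidirectProduct.inl d) = 1 := map_one c.π
    rw [Pi.mul_apply, hΦ' _ p1, Th_one, map_prod, Th, mul_assoc, ← Finset.prod_mul_distrib]
    refine congrArg₂ _ rfl (Finset.prod_congr rfl fun i _ => ?_)
    have g1 : γ (SemidirectProduct.inl d) i = 1 := by
      simp only [γ, p1, SemidirectProduct.right_inl, coe_one, c.a_one, Equiv.Perm.one_apply, mul_one, inv_mul_cancel]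
    simp only [tW', g1, dif_pos (one_mem _), p1, Equiv.Perm.one_apply]
    rw [show (⟨1, one_mem _⟩ : St Λ (ϑ (r i))) = 1 from rfl, map_one, mul_one, k1, hβ', hβ'', map_one,
      MulAut.apply_inv_self]
    rfl
  · have p1 : π (t e) = 1 := B.π_q e
    rw [Pi.mul_apply, hΦ' _ p1, Th_one, Th, map_mul, map_prod, mul_left_comm, ← Finset.prod_mul_distrib]
    refine congrArg₂ _ (isCharacter_apply_inv (isCharacter_lf m) e.1) (Finset.prod_congr rfl fun i _ => ?_)
    let y : In Λ := rs Λ ⟨β i, hβ i⟩⁻¹ (e.2 i)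
    have g1 : γ (t e) i = MulAut.conj (y : X) := by
      have g2 : c.a ((t e).right : c.hat Λ) i = MulAut.conj (e.2 i : X) := B.a_q e i
      simp only [γ, p1, Equiv.Perm.one_apply, g2]
      exact (conj_map (β i)⁻¹ _).symm
    have m1 := hγ (t e) i
    rw [g1] at m1
    simp only [tW', g1, dif_pos m1, p1, Equiv.Perm.one_apply]
    have g3 : (β i)⁻¹ ((t e).left.2 i) = (y : X)⁻¹ := map_inv _ _
    rw [k3, ← map_mul, g3, Prod.mk_mul_mk, inv_mul_cancel, one_mul, k1, hβ', hβ'', map_one, ← MulAut.mul_apply,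
      ← map_mul, mul_inv_cancel, map_one, MulAut.one_apply]
  · rw [r1, r2, r3, nd_mul, nd_mul, Th_cop m hi, Th_cop m hi']
    exact and_congr_right fun _ => ⟨fun _ i => (o.bij.mapsTo (hϑ i)).1.2, fun _ i => (hϑ i).1.2⟩

end fam

/-- **the Clifford step** -/
theorem stepC [Fact p.Prime] : StepC p := by
  intro X _ _ Γ Λ s h hΩ G _ _ Z ι _ c l hl
  have hX := noncomm s
  obtain ⟨i₀⟩ := c.ne
  obtain ⟨Ω, o⟩ := hΩ (fun x => l (c.e i₀ x)) fun z hz h1 =>
    c.inj i₀ ((hl _ (e_mem_Z c hz i₀) h1).trans (map_one _).symm)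
  refine kk_eq_of_hom c.cen (Z_le_hat c hX _) (Z_le_hat c hX _) fun m hm => ?_
  let A := sA c hX
  let B := sB Λ c hX
  let ic : c.hat Λ →* c.hat Γ := inclusion (hat_mono c h.le)
  let I := {ϑ : ι → X → ℂ // ∀ i, ϑ i ∈ SA p Λ fun x => l (c.e i₀ x)}
  have hi : ∀ (x : I) i, IsIrrCharacter X (x.1 i) := fun x i => (x.2 i).1.1
  have hi' : ∀ (x : I) i, IsIrrCharacter (In Λ) (Ω (x.1 i)) := fun x i => (o.bij.mapsTo (x.2 i)).1.1
  have := finite_irr (G := X)
  have : Finite I := Finite.of_injective (fun (x : I) (i : ι) => (⟨x.1 i, hi x i⟩ : IrrCharacter X))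
    fun x y e => Subtype.ext (funext fun i => congrArg Subtype.val (congrFun e i))
  have := finite_sub (p := fun ψ => PI p (c.hat Γ) ψ ∧ Ov (c.hat Γ) Z l ψ) fun _ h => h.1.1
  have := finite_sub (p := fun ψ => PI p (c.hat Λ) ψ ∧ Ov (c.hat Λ) Z l ψ) fun _ h => h.1.1
  let S : Setoid I := ⟨fun x y => ∃ u, y.1 = A.cj (ic u) x.1, ⟨fun x => ⟨1, by rw [map_one, A.cj_one]⟩,
    fun ⟨u, hu⟩ => ⟨u⁻¹, by rw [hu, ← A.cj_mul, ← map_mul, mul_inv_cancel, map_one, A.cj_one]⟩,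
    fun ⟨u, hu⟩ ⟨v, hv⟩ => ⟨u * v, by rw [hv, hu, map_mul, A.cj_mul]⟩⟩⟩
  refine RM.card_eq_of_fibers S (fun χ x => Over A.f χ.1 (Th m x.1)) (fun η x => Over B.f η.1 (Th m fun i => Ω (x.1 i)))
    (fun χ => ?_) (fun η => ?_) (fun χ x y hx => ?_) (fun η x y hx => ?_) fun x => ?_
  · obtain ⟨ϑ, h1, h2, h3, h4⟩ := A.under hm χ.2.1 χ.2.2
    refine ⟨⟨ϑ, fun i => ⟨h1 i, fun z hz => ?_, fun α hα ⟨k, hk⟩ x => ?_⟩⟩, h4⟩
    · exact (h2 i z hz).trans (congrArg (fun g => l g * ϑ i 1) (e_cen c hz i i₀))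
    · obtain ⟨g, g1, g2, rfl, j, g4⟩ := exists_p c h i hα hk
      have h5 := congrFun (congrFun (h3 (ic ⟨g, g1⟩) j g4) i) x
      rw [← h5]
      change _ = ϑ (c.π g i) _
      rw [g2]
      rfl
  · obtain ⟨ψ, h1, h2, h3, h4⟩ := B.under hm η.2.1 η.2.2
    have h5 : ∀ i, ψ i ∈ SB p Λ fun x => l (c.e i₀ x) := fun i => by
      refine ⟨h1 i, fun z hz => ?_, fun α ⟨k, hk⟩ x => ?_⟩
      · exact (h2 i z hz).trans (congrArg (fun g => l g * ψ i 1) (e_cen c hz i i₀))
      · obtain ⟨α, hα⟩ := α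
        obtain ⟨g, g1, g2, rfl, j, g4⟩ := exists_p c h i hα (congrArg Subtype.val hk)
        have h5 := congrFun (congrFun (h3 ⟨g, g1⟩ j g4) i) x
        rw [← h5]
        change _ = ψ (c.π g i) _
        rw [g2]
        rfl
    choose ϑ k1 k2 using fun i => o.bij.surjOn (h5 i)
    exact ⟨⟨ϑ, k1⟩, by rwa [funext k2]⟩
  · rw [A.over_iff_cj m χ.2.1.1 (hi x) (hi y) hx]
    refine ⟨fun ⟨a, ha⟩ => ?_, fun ⟨u, hu⟩ => ⟨_, hu⟩⟩
    obtain ⟨d, u, rfl⟩ := decomp' hX h a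
    exact ⟨u, by rw [ha, A.cj_mul, A.cj_f (hi x)]⟩
  · rw [B.over_iff_cj m η.2.1.1 (hi' x) (hi' y) hx]
    exact exists_congr fun u => cj_iff s o hX h.le x.2 y.2 u
  · refine Eq.trans (Nat.card_congr ?_) ((fibre (c := c) s h o hX m x.2).trans (Nat.card_congr ?_))
    · exact
        { toFun := fun χ => ⟨χ.1.1, χ.1.2.1, χ.2⟩
          invFun := fun χ => ⟨⟨χ.1, χ.2.1, A.ov_of_over hm χ.2.1.1 (hi x) χ.2.2⟩, χ.2.2⟩
          left_inv := fun _ => rfl
          right_inv := fun _ => rfl }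
    · exact
        { toFun := fun η => ⟨⟨η.1, η.2.1, B.ov_of_over hm η.2.1.1 (hi' x) η.2.2⟩, η.2.2⟩
          invFun := fun η => ⟨η.1.1, η.1.2.1, η.2⟩
          left_inv := fun _ => rfl
          right_inv := fun _ => rfl }

end Cfsg.Agent.MO.C
end

-- part: MO/H/Yk
section
/-!
# MO, box H: the Yokonuma-Hecke step `stepY` (helper76, from `MK`)

* `la` : the length of an automorphism `conj n * θ`; `hl` : the length function on `G`;
* `yd_hat` : the Bruhat decomposition of `hat (Cj H ⊔ Θ)`;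
* `exists_nofix` : a `p`-subgroup of `hat Θ` without fixed points on `PP c U`.
-/

set_option autoImplicit false
set_option maxHeartbeats 400000

namespace Cfsg.Agent.MO.H

open Cfsg Subgroup
open Cfsg.Agent.MK (Ov Fa Cj In Nm St rs Supp YD Core conj_map)

variable {p : ℕ} {X : Type} [Group X]

theorem mem_Cj_sup {Θ : Subgroup (MulAut X)} {K : Subgroup X} (hK : ∀ θ ∈ Θ, ∀ k ∈ K, θ k ∈ K) {α : MulAut X} :
    α ∈ Cj K ⊔ Θ ↔ ∃ n ∈ K, ∃ θ ∈ Θ, α = MulAut.conj n * θ := by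
  let S : Subgroup (MulAut X) :=
    { carrier := {α | ∃ n ∈ K, ∃ θ ∈ Θ, α = MulAut.conj n * θ}
      one_mem' := ⟨1, one_mem _, 1, one_mem _, by rw [map_one, one_mul]⟩
      mul_mem' := by
        rintro _ _ ⟨n, hn, θ, hθ, rfl⟩ ⟨m, hm, η, hη, rfl⟩
        refine ⟨n * θ m, mul_mem hn (hK θ hθ m hm), θ * η, mul_mem hθ hη, ?_⟩
        rw [map_mul, conj_map]
        group
      inv_mem' := by
        rintro _ ⟨n, hn, θ, hθ, rfl⟩
        refine ⟨θ⁻¹ n⁻¹, hK _ (inv_mem hθ) _ (inv_mem hn), θ⁻¹, inv_mem hθ, ?_⟩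
        rw [conj_map, map_inv]
        group }
  constructor
  · intro h
    refine (sup_le ?_ ?_ : Cj K ⊔ Θ ≤ S) h
    · rintro _ ⟨n, hn, rfl⟩
      exact ⟨n, hn, 1, one_mem _, (mul_one _).symm⟩
    · exact fun θ hθ => ⟨1, one_mem _, θ, hθ, by rw [map_one, one_mul]⟩
  · rintro ⟨n, hn, θ, hθ, rfl⟩
    exact mul_mem (mem_sup_left ⟨n, hn, rfl⟩) (mem_sup_right hθ)

open Classical in
/-- the length of an automorphism -/
noncomputable def la (Θ : Subgroup (MulAut X)) (N : Subgroup X) (len : X → ℕ) (α : MulAut X) : ℕ :=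
  if h : ∃ n ∈ N, ∃ θ ∈ Θ, α = MulAut.conj n * θ then len h.choose else 0

section comp

variable {Γ Θ : Subgroup (MulAut X)} {H U N : Subgroup X} {len : X → ℕ} (y : YX p Γ Θ H U N len)
include y

theorem mem_N {α : MulAut X} : α ∈ Cj N ⊔ Θ ↔ ∃ n ∈ N, ∃ θ ∈ Θ, α = MulAut.conj n * θ :=
  mem_Cj_sup fun θ hθ n hn => (y.hN θ hθ n hn).1

theorem mem_H {α : MulAut X} : α ∈ Cj H ⊔ Θ ↔ ∃ n ∈ H, ∃ θ ∈ Θ, α = MulAut.conj n * θ :=
  mem_Cj_sup fun θ hθ h hh => by
    obtain ⟨u, hu, n, hn, v, hv, rfl⟩ := y.yd.cover h hh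
    rw [map_mul, map_mul]
    exact mul_mem (mul_mem (y.yd.uH (y.hU θ hθ u hu)) (y.yd.nH (y.hN θ hθ n hn).1)) (y.yd.uH (y.hU θ hθ v hv))

theorem of_conj_eq {a b : X} {θ η : MulAut X} (hθ : θ ∈ Θ) (hη : η ∈ Θ)
    (h : MulAut.conj a * θ = MulAut.conj b * η) : b⁻¹ * a ∈ N ∧ len (b⁻¹ * a) = 0 := by
  rw [← y.inn]
  have h1 : MulAut.conj (b⁻¹ * a) = η * θ⁻¹ := by
    rw [map_mul, map_inv, inv_mul_eq_iff_eq_mul, ← mul_assoc, ← h, mul_inv_cancel_right]
  rw [h1]
  exact mul_mem hη (inv_mem hθ)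

theorem la_mk {n : X} (hn : n ∈ N) {θ : MulAut X} (hθ : θ ∈ Θ) : la Θ N len (MulAut.conj n * θ) = len n := by
  have h : ∃ m ∈ N, ∃ η ∈ Θ, MulAut.conj n * θ = MulAut.conj m * η := ⟨n, hn, θ, hθ, rfl⟩
  rw [la, dif_pos h]
  obtain ⟨hm, η, hη, e⟩ := h.choose_spec
  obtain ⟨h1, h2⟩ := of_conj_eq y hθ hη e
  have h3 := (y.yd.zero _ h1 h2).2 n⁻¹ (inv_mem hn)
  rw [mul_inv_cancel_right, y.yd.inv _ hm, y.yd.inv _ hn] at h3
  exact h3

theorem la_theta {θ : MulAut X} (hθ : θ ∈ Θ) : la Θ N len θ = 0 := by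
  have h := la_mk y (one_mem N) hθ
  rwa [map_one, one_mul, y.yd.one] at h

theorem mem_of_la {α : MulAut X} (hα : α ∈ Cj N ⊔ Θ) (h : la Θ N len α = 0) : α ∈ Θ := by
  obtain ⟨n, hn, θ, hθ, rfl⟩ := (mem_N y).1 hα
  rw [la_mk y hn hθ] at h
  exact mul_mem ((y.inn n).2 ⟨hn, h⟩) hθ

theorem la_mul {n m : X} (hn : n ∈ N) (hm : m ∈ N) {θ η : MulAut X} (hθ : θ ∈ Θ) (hη : η ∈ Θ) :
    la Θ N len (MulAut.conj n * θ * (MulAut.conj m * η)) = len (n * θ m) := by
  rw [← la_mk y (mul_mem hn (y.hN θ hθ m hm).1) (mul_mem hθ hη), map_mul, conj_map]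
  congr 1
  group

theorem la_left {θ α : MulAut X} (hθ : θ ∈ Θ) (hα : α ∈ Cj N ⊔ Θ) : la Θ N len (θ * α) = la Θ N len α := by
  obtain ⟨n, hn, η, hη, rfl⟩ := (mem_N y).1 hα
  have h := la_mul y (one_mem N) hn hθ hη
  rw [map_one, one_mul, one_mul, (y.hN θ hθ n hn).2] at h
  rw [h, la_mk y hn hη]

theorem la_inv {α : MulAut X} (hα : α ∈ Cj N ⊔ Θ) : la Θ N len α⁻¹ = la Θ N len α := by
  obtain ⟨n, hn, η, hη, rfl⟩ := (mem_N y).1 hα
  have h := la_mk y (inv_mem hn) (one_mem Θ)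
  rw [mul_one, map_inv, y.yd.inv _ hn] at h
  rw [mul_inv_rev, la_left y (inv_mem hη) (inv_mem (mem_sup_left ⟨n, hn, rfl⟩)), h, la_mk y hn hη]

theorem eq_one_of_cen {u : X} (hu : u ∈ U) (hz : u ∈ center X) : u = 1 := by
  have h1 : u ∈ N := ((y.inn u).1 (by rw [conj_eq_one.2 hz]; exact one_mem _)).1
  exact (y.yd.uniq 1 (one_mem _) u h1 u hu 1 (one_mem _) (by rw [mul_one, mul_one])).symm

end comp

variable {Γ : Subgroup (MulAut X)} {G : Type} [Group G] {Z : Subgroup G} {ι : Type} [Fintype ι] (c : Conf p Γ G Z ι)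

/-- the length function on `G` -/
noncomputable def hl (Θ : Subgroup (MulAut X)) (N : Subgroup X) (len : X → ℕ) (g : G) : ℕ :=
  ∑ i, la Θ N len (c.a g i)

/-- the shape of an element of length one -/
structure One (Θ : Subgroup (MulAut X)) (N : Subgroup X) (len : X → ℕ) (s : G) (j : ι) (σ : X) (θ : MulAut X) :
    Prop where
  mem : σ ∈ N
  one : len σ = 1
  th : θ ∈ Θ
  eq : c.a s j = MulAut.conj σ * θ
  ne : ∀ i, i ≠ j → c.a s i ∈ Θ

variable {Θ : Subgroup (MulAut X)} {H U N : Subgroup X} {len : X → ℕ} (y : YX p Γ Θ H U N len)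
include y

theorem hl_eq_zero {g : G} (hg : g ∈ c.hat Θ) : hl c Θ N len g = 0 :=
  Finset.sum_eq_zero fun i _ => la_theta y (hg i)

theorem mem_of_hl {g : G} (hg : g ∈ c.hat (Cj N ⊔ Θ)) (h : hl c Θ N len g = 0) : g ∈ c.hat Θ := fun i =>
  mem_of_la y (hg i) (Finset.sum_eq_zero_iff.1 h i (Finset.mem_univ i))

theorem exists_one {s : G} (hs : s ∈ c.hat (Cj N ⊔ Θ)) (h : hl c Θ N len s = 1) :
    ∃ j σ θ, One c Θ N len s j σ θ := by
  classical
  obtain ⟨j, -, hj⟩ := Finset.exists_ne_zero_of_sum_ne_zero (h.trans_ne one_ne_zero)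
  rw [hl, ← Finset.add_sum_erase _ _ (Finset.mem_univ j)] at h
  obtain ⟨σ, hσ, θ, hθ, e⟩ := (mem_N y).1 (hs j)
  have h1 : ∑ i ∈ Finset.univ.erase j, la Θ N len (c.a s i) = 0 := by omega
  refine ⟨j, σ, θ, hσ, ?_, hθ, e, fun i hi => mem_of_la y (hs i) ?_⟩
  · rw [h1, add_zero, e, la_mk y hσ hθ] at h
    exact h
  · exact Finset.sum_eq_zero_iff.1 h1 i (Finset.mem_erase.2 ⟨hi, Finset.mem_univ i⟩)

theorem hl_one {s : G} {j : ι} {σ : X} {θ : MulAut X} (o : One c Θ N len s j σ θ) : hl c Θ N len s = 1 := by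
  rw [hl, Finset.sum_eq_single j (fun i _ hi => la_theta y (o.ne i hi)) fun h => absurd (Finset.mem_univ j) h, o.eq,
    la_mk y o.mem o.th, o.one]

theorem hl_mul {s : G} {σ : X} {θ : MulAut X} {n : G} {i : ι} (o : One c Θ N len s (c.π n i) σ θ)
    (hn : n ∈ c.hat (Cj N ⊔ Θ)) {m : X} (hm : m ∈ N) {η : MulAut X} (hη : η ∈ Θ)
    (e : c.a n i = MulAut.conj m * η) : hl c Θ N len (s * n) + len (θ m) = hl c Θ N len n + len (σ * θ m) := by
  classical
  rw [hl, hl, ← Finset.add_sum_erase _ _ (Finset.mem_univ i), ← Finset.add_sum_erase _ _ (Finset.mem_univ i),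
    c.a_mul, o.eq, e, la_mul y o.mem hm o.th hη, la_mk y hm hη, (y.hN θ o.th m hm).2,
    Finset.sum_congr rfl fun k hk => show la Θ N len (c.a (s * n) k) = la Θ N len (c.a n k) by
      rw [c.a_mul, la_left y (o.ne _ fun h => (Finset.mem_erase.1 hk).1 ((c.π n).injective h)) (hn k)]]
  ring

omit [Fintype ι] y in
theorem one_e {σ : X} (hσ : σ ∈ N) (h : len σ = 1) (j : ι) : One c Θ N len (c.e j σ) j σ 1 :=
  ⟨hσ, h, one_mem _, by rw [a_e_self, mul_one], fun i hi => by rw [a_e_ne c hi.symm]; exact one_mem _⟩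

omit [Fintype ι] y in
theorem One.mem_hat {s : G} {j : ι} {σ : X} {θ : MulAut X} (o : One c Θ N len s j σ θ) : s ∈ c.hat (Cj N ⊔ Θ) :=
  fun i => by
    by_cases h : i = j
    · rw [h, o.eq]
      exact mul_mem (mem_sup_left ⟨σ, o.mem, rfl⟩) (mem_sup_right o.th)
    · exact mem_sup_right (o.ne i h)

/-- the conjugate of an element of `PP c U` by an element of length one -/
theorem One.conj {s : G} {j : ι} {σ : X} {θ : MulAut X} (o : One c Θ N len s j σ θ) {u : G} (hu : u ∈ PP c U) :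
    ∃ v ∈ U, ∃ w ∈ PP c U, s * u * s⁻¹ = w * c.e (c.π s j) (σ * v * σ⁻¹) := by
  classical
  obtain ⟨x, hx, rfl⟩ := (mem_PP c).1 hu
  obtain ⟨z, hz⟩ := exists_conj c s x
  refine ⟨θ (x j), y.hU θ o.th _ (hx j), pr c (Function.update z (c.π s j) 1), pr_mem_PP c fun k => ?_, ?_⟩
  · obtain ⟨k, rfl⟩ := (c.π s).surjective k
    by_cases hk : k = j
    · rw [hk, Function.update_self]
      exact one_mem _
    · rw [Function.update_of_ne fun h => hk ((c.π s).injective h), hz]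
      exact y.hU _ (o.ne k hk) _ (hx k)
  · rw [conj_pr c s hz, ← pr_single, ← map_mul]
    congr 1
    ext k
    by_cases hk : k = c.π s j
    · rw [hk, Pi.mul_apply, Function.update_self, Pi.mulSingle_eq_same, hz, o.eq, one_mul]
      rfl
    · rw [Pi.mul_apply, Function.update_of_ne hk, Pi.mulSingle_eq_of_ne hk, mul_one]

/-- **the Bruhat decomposition in `G`** -/
theorem yd_hat : YD (c.hat (Cj H ⊔ Θ)) (PP c U) (c.hat (Cj N ⊔ Θ)) (hl c Θ N len) where
  uH := PP_le_hat c fun u hu => mem_sup_left ⟨u, y.yd.uH hu, rfl⟩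
  nH := hat_mono c (sup_le_sup_right (map_mono y.yd.nH) _)
  cover g hg := by
    have h : ∀ i, ∃ u ∈ U, ∃ v ∈ U, MulAut.conj u * c.a g i * MulAut.conj v ∈ Cj N ⊔ Θ := fun i => by
      obtain ⟨h, hh, θ, hθ, e⟩ := (mem_H y).1 (hg i)
      obtain ⟨u, hu, n, hn, v, hv, rfl⟩ := y.yd.cover h hh
      refine ⟨u⁻¹, inv_mem hu, θ⁻¹ v⁻¹, y.hU _ (inv_mem hθ) _ (inv_mem hv), (mem_N y).2 ⟨n, hn, θ, hθ, ?_⟩⟩
      rw [e, conj_map, map_mul, map_mul, map_inv, map_inv]
      group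
    choose u hu v hv h using h
    refine ⟨(pr c fun k => u ((c.π g).symm k))⁻¹, inv_mem (pr_mem_PP c fun _ => hu _),
      pr c (fun k => u ((c.π g).symm k)) * g * pr c v, fun i => ?_, (pr c v)⁻¹, inv_mem (pr_mem_PP c hv), by group⟩
    rw [a_mul_pr, a_pr_mul, Equiv.symm_apply_apply]
    exact h i
  uniq n hn n' hn' u₀ hu₀ v₀ hv₀ e := by
    obtain ⟨u, hu, rfl⟩ := (mem_PP c).1 hu₀
    obtain ⟨v, hv, rfl⟩ := (mem_PP c).1 hv₀
    obtain ⟨w, hw⟩ := exists_conj c n v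
    have h : u * w = 1 := by
      ext k
      obtain ⟨i, rfl⟩ := (c.π n).surjective k
      obtain ⟨m, hm, θ, hθ, e1⟩ := (mem_N y).1 (hn i)
      obtain ⟨m', hm', θ', hθ', e2⟩ := (mem_N y).1 (hn' i)
      rw [← e, a_mul_pr, a_pr_mul, e1] at e2
      have e3 : MulAut.conj (u (c.π n i) * m * θ (v i)) * θ = MulAut.conj m' * θ' := by
        rw [← e2, map_mul, map_mul, conj_map]
        group
      have h1 := mul_mem hm' (of_conj_eq y hθ hθ' e3).1
      rw [mul_inv_cancel_left] at h1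
      have h2 := y.yd.uniq m hm _ h1 _ (hu _) _ (y.hU θ hθ _ (hv i)) rfl
      rw [Pi.mul_apply, hw, e1, Pi.one_apply]
      change u (c.π n i) * (m * θ (v i) * m⁻¹) = 1
      rw [← mul_assoc, ← mul_assoc, ← h2, mul_inv_cancel]
    rw [← e]
    calc n = pr c (u * w) * n := by rw [h, map_one, one_mul]
      _ = pr c u * n * pr c v := by rw [map_mul, ← conj_pr c n hw]; group
  one := hl_eq_zero c y (one_mem _)
  inv n hn := by
    rw [hl, hl, ← Equiv.sum_comp (c.π n)]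
    exact Finset.sum_congr rfl fun i _ => by rw [a_inv', la_inv y (hn i)]
  zero t ht h := by
    have h1 := mem_of_hl c y ht h
    refine ⟨fun u hu => conj_mem_PP c (fun i => y.hU _ (h1 i)) hu, fun n hn => Finset.sum_congr rfl fun i _ => ?_⟩
    rw [c.a_mul, la_left y (h1 _) (hn i)]
  step s hs h n hn := by
    obtain ⟨j, σ, θ, o⟩ := exists_one c y hs h
    obtain ⟨i, rfl⟩ := (c.π n).surjective j
    obtain ⟨m, hm, η, hη, e⟩ := (mem_N y).1 (hn i)
    have h1 := hl_mul c y o hn hm hη e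
    have h2 := y.yd.step σ o.mem o.one _ (y.hN θ o.th m hm).1
    omega
  desc n hn h := by
    obtain ⟨i, -, hi⟩ := Finset.exists_ne_zero_of_sum_ne_zero h
    obtain ⟨m, hm, η, hη, e⟩ := (mem_N y).1 (hn i)
    rw [e, la_mk y hm hη] at hi
    obtain ⟨σ, hσ, h1, h2⟩ := y.yd.desc m hm hi
    have o : One c Θ N len _ _ _ _ := one_e c hσ h1 (c.π n i)
    have h3 := hl_mul c y o hn hm hη e
    rw [MulAut.one_apply] at h3
    exact ⟨_, o.mem_hat, hl_one c y o, by omega⟩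
  up s hs h n hn h1 u hu := by
    obtain ⟨j, σ, θ, o⟩ := exists_one c y hs h
    obtain ⟨i, rfl⟩ := (c.π n).surjective j
    obtain ⟨m, hm, η, hη, e⟩ := (mem_N y).1 (hn i)
    have h2 := hl_mul c y o hn hm hη e
    obtain ⟨v, hv, w, hw, e1⟩ := o.conj c y hu
    obtain ⟨u', hu', v', hv', e2⟩ := y.yd.up σ o.mem o.one _ (y.hN θ o.th m hm).1 (by omega) v hv
    refine ⟨w * c.e (c.π s (c.π n i)) u', mul_mem hw (e_mem_PP c hu' _), c.e i ((θ * η)⁻¹ v'),
      e_mem_PP c (y.hU _ (inv_mem (mul_mem o.th hη)) _ hv') _, ?_⟩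
    have e3 := c.ha (s * n) i ((θ * η)⁻¹ v')
    have e4 : c.a (s * n) i ((θ * η)⁻¹ v') = u'⁻¹ * (σ * v * σ⁻¹) := by
      have e5 : c.a (s * n) i = MulAut.conj (σ * θ m) * (θ * η) := by
        rw [c.a_mul, o.eq, e, map_mul, conj_map]
        group
      rw [e5, MulAut.mul_apply, MulAut.apply_inv_self, MulAut.conj_apply, eq_inv_mul_iff_mul_eq, ← mul_assoc,
        ← mul_assoc, ← e2]
      group
    rw [e4, map_mul c.π, Equiv.Perm.mul_apply, map_mul, map_inv, mul_inv_eq_iff_eq_mul] at e3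
    calc s * u * n = s * u * s⁻¹ * (s * n) := by group
      _ = _ := by rw [e1, mul_assoc (w * _), e3]; group
  quad s hs h u hu := by
    obtain ⟨j, σ, θ, o⟩ := exists_one c y hs h
    obtain ⟨v, hv, w, hw, e1⟩ := o.conj c y hu
    rcases y.yd.quad σ o.mem o.one v hv with h1 | ⟨t, ht, h1, u', hu', v', hv', e2⟩
    · exact Or.inl (e1 ▸ mul_mem hw (e_mem_PP c h1 _))
    · have h2 : c.e (c.π s j) (t * σ⁻¹) * s ∈ c.hat Θ := fun i => by
        rw [c.a_mul]
        by_cases hi : i = j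
        · rw [hi, a_e_self, o.eq, map_mul, map_inv, mul_assoc, inv_mul_cancel_left]
          exact mul_mem ((y.inn t).2 ⟨ht, h1⟩) o.th
        · rw [a_e_ne c fun h => hi ((c.π s).injective h).symm, one_mul]
          exact o.ne i hi
      refine Or.inr ⟨_, hat_mono c le_sup_right h2, hl_eq_zero c y h2, w * c.e (c.π s j) u',
        mul_mem hw (e_mem_PP c hu' _), c.e (c.π s j) v', e_mem_PP c hv' _, ?_⟩
      rw [e1, e2, map_mul, map_mul]
      group

variable [hp : Fact p.Prime]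

omit [Fintype ι] y in
/-- in a group which is `p`-closed modulo `M` the Sylow `p`-subgroups are conjugate under `M` -/
theorem exists_conj_le {T : Type} [Group T] [Finite T] {M R : Subgroup T} [M.Normal] [R.Normal]
    (hR : ∀ g ∈ R, ∃ k : ℕ, g ^ p ^ k ∈ M) (ho : ¬ p ∣ R.index) (P : Sylow p T) {S : Subgroup T} (hS : IsPGroup p S) :
    ∃ l ∈ M, ∀ s ∈ S, l⁻¹ * s * l ∈ (P : Subgroup T) := by
  have h1 : S ≤ R := fun s hs => by
    obtain ⟨k, hk⟩ := hS ⟨s, hs⟩
    have hk' : (s : T ⧸ R) ^ p ^ k = 1 := by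
      rw [← QuotientGroup.mk_pow, show s ^ p ^ k = 1 from congrArg Subtype.val hk, QuotientGroup.mk_one]
    rw [← QuotientGroup.eq_one_iff, ← orderOf_eq_one_iff]
    exact Nat.eq_one_of_dvd_coprimes (cop_pow ho k) (orderOf_dvd_of_pow_eq_one hk')
      (orderOf_dvd_natCard _)
  have h2 : IsPGroup p (R.map (QuotientGroup.mk' M)) := by
    rintro ⟨_, g, hg, rfl⟩
    obtain ⟨k, hk⟩ := hR g hg
    exact ⟨k, Subtype.ext ((QuotientGroup.eq_one_iff _).2 hk)⟩
  have := Normal.map (inferInstance : R.Normal) _ (QuotientGroup.mk'_surjective M)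
  have h3 : S ≤ M ⊔ P := fun s hs => by
    obtain ⟨w, hw, e⟩ := h2.le_sylow_of_normal (P.mapSurjective (QuotientGroup.mk'_surjective M)) ⟨s, h1 hs, rfl⟩
    have h4 := mul_mem (mem_sup_right hw : w ∈ M ⊔ P) (mem_sup_left (QuotientGroup.eq.1 e))
    rwa [mul_inv_cancel_left] at h4
  obtain ⟨Q, hQ⟩ := (hS.comap_subtype (K := M ⊔ P)).exists_le_sylow
  obtain ⟨k, rfl⟩ := MulAction.exists_smul_eq (↥(M ⊔ P)) (P.subtype (le_sup_right : (P : Subgroup T) ≤ M ⊔ P)) Q
  obtain ⟨l, hl, w, hw, e⟩ := mem_sup_of_normal_left.1 k.2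
  refine ⟨l, hl, fun s hs => ?_⟩
  obtain ⟨t, ht, e1⟩ := hQ (show (⟨s, h3 hs⟩ : ↥(M ⊔ P)) ∈ S.comap (M ⊔ P).subtype from hs)
  have e2 : (k : T) * t * (k : T)⁻¹ = s := congrArg Subtype.val e1
  rw [← e2, ← e, show l⁻¹ * (l * w * t * (l * w)⁻¹) * l = w * t * w⁻¹ by group]
  exact mul_mem (mul_mem hw ht) (inv_mem hw)

/-- **no fixed points** -/
theorem exists_nofix [Finite G] (hX : ∃ x y : X, x * y ≠ y * x) :
    ∃ D ≤ c.hat Θ, IsPGroup p D ∧ ∀ u ∈ PP c U, (∀ d ∈ D, d * u * d⁻¹ = u) → u = 1 := by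
  obtain ⟨R, hn, -, hR, ho⟩ := c.cl
  obtain ⟨D, hD, h2, hf⟩ := y.nofix
  have := normal_LL c
  obtain ⟨P⟩ : Nonempty (Sylow p (c.hat Θ)) := inferInstance
  refine ⟨(P : Subgroup (c.hat Θ)).map (c.hat Θ).subtype, map_subtype_le _, P.2.map _, fun u₀ hu₀ h => ?_⟩
  obtain ⟨u, hu, rfl⟩ := (mem_PP c).1 hu₀
  rw [show u = 1 from funext fun i => ?_, map_one]
  let W : Subgroup (c.hat Θ) :=
    { carrier := {g | c.π g i = i ∧ c.a g i ∈ D}
      one_mem' := ⟨by rw [OneMemClass.coe_one, map_one, Equiv.Perm.one_apply], by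
        rw [OneMemClass.coe_one, c.a_one]; exact one_mem _⟩
      mul_mem' := fun {a b} ha hb => ⟨by rw [coe_mul, map_mul, Equiv.Perm.mul_apply, hb.1, ha.1], by
        rw [coe_mul, c.a_mul, hb.1]; exact mul_mem ha.2 hb.2⟩
      inv_mem' := fun {a} ha => ⟨by rw [coe_inv, map_inv, Equiv.Perm.inv_eq_iff_eq, ha.1], by
        have h := a_inv' c a i
        rw [ha.1] at h
        rw [coe_inv, h]
        exact inv_mem ha.2⟩ }
  let φ : W →* D := MonoidHom.mk' (fun g => ⟨c.a g i, g.2.2⟩) fun a b => Subtype.ext (by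
    change c.a ((a : c.hat Θ) * (b : c.hat Θ) : G) i = c.a a i * c.a b i
    rw [c.a_mul, b.2.1])
  have hφ : Function.Surjective φ := fun α => by
    obtain ⟨g, hg, e1, e2⟩ := exists_hat c y.supp i i (hD α.2)
    exact ⟨⟨⟨g, hg⟩, e1, e2 ▸ α.2⟩, Subtype.ext e2⟩
  obtain ⟨S⟩ : Nonempty (Sylow p W) := inferInstance
  obtain ⟨l, hl, h3⟩ := exists_conj_le (M := (LL c).subgroupOf (c.hat Θ)) (R := R.subgroupOf (c.hat Θ))
    (fun g hg => hR g hg) (nd_of_dvd ho (relIndex_dvd_index_of_normal _ _)) P (S.2.map W.subtype)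
  have h4 : c.π l = 1 := π_LL c hX hl
  have h5 := hf _ (y.hU _ (l.2 i) _ (hu i)) fun α hα => by
    obtain ⟨g, hg, e⟩ := (h2.of_equiv topEquiv.symm).le_sylow_of_normal (S.mapSurjective hφ) (mem_top ⟨α, hα⟩)
    have e1 : c.a g i = α := congrArg Subtype.val e
    have h6 := h _ ⟨_, h3 g ⟨g, hg, rfl⟩, rfl⟩
    obtain ⟨w, hw⟩ := exists_conj c (((l⁻¹ * g * l : c.hat Θ)) : G) u
    have h7 := cen_of_pr_eq c ((conj_pr c _ hw).symm.trans h6) i
    have h8 : c.π ((l⁻¹ * g * l : c.hat Θ) : G) i = i := by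
      rw [coe_mul, coe_mul, coe_inv, map_mul, map_mul, map_inv, h4, inv_one, one_mul, mul_one, g.2.1]
    have h9 := hw i
    rw [h8] at h9
    have h10 := eq_one_of_cen y (mul_mem (inv_mem (hu i)) (h9 ▸ y.hU _ ((l⁻¹ * g * l : c.hat Θ).2 i) _ (hu i))) h7
    have h11 := a_inv' c l i
    rw [h4, Equiv.Perm.one_apply] at h11
    rw [inv_mul_eq_one, h9, coe_mul, coe_mul, coe_inv, c.a_mul, c.a_mul, h4, Equiv.Perm.one_apply, g.2.1, h11, e1,
      MulAut.mul_apply, MulAut.mul_apply] at h10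
    conv_rhs => rw [h10, MulAut.apply_inv_self]
  exact (map_eq_one_iff _ (c.a l i).injective).1 h5

omit y in
/-- **the Yokonuma-Hecke step** -/
theorem stepY (h : Core) : StepY p := by
  intro X _ _ Γ Θ H U N len s y G _ _ Z ι _ c l _
  obtain ⟨D, h1, h2, h3⟩ := exists_nofix c y (noncomm s)
  exact kk_of_core h (yd_hat c y) c.cen (Z_le_hat c (noncomm s) _)
    (fun z hz => hl_eq_zero c y (Z_le_hat c (noncomm s) _ hz)) (h1.trans (hat_mono c le_sup_right)) h2
    (fun d hd u hu => conj_mem_PP c (fun i => y.hU _ (h1 hd i)) hu) h3 (cop_PP c y.cop) l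

end Cfsg.Agent.MO.H
end

-- part: MO/R/Grp
section
/-!
# MO, the reduction: the components of a critical group (helper76, from `MK`)

`exists_conf` : a critical group which is not `p`-solvable is a configuration.
-/

set_option autoImplicit false
set_option maxHeartbeats 400000

namespace Cfsg.Agent.MO.R

open Cfsg Subgroup Cfsg.Agent.ODD.Red Cfsg.Agent.Lib.MinNormal Cfsg.Agent.Lib.MinNormalNonabelian

open Cfsg.Agent.MK.R (normal_of_le_center out_mem smul_eq_iff exists_out comm_out)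

variable {p : ℕ} {G : Type} [Group G]

theorem pow_mem_of_sup {K P : Subgroup G} [K.Normal] (hP : IsPGroup p P) {x : G} (hx : x ∈ K ⊔ P) : ∃ k : ℕ, x ^ p ^ k ∈ K := by
  have h1 : QuotientGroup.mk' K x ∈ P.map (QuotientGroup.mk' K) := by
    rwa [← mem_comap, comap_map_eq, QuotientGroup.ker_mk', sup_comm]
  obtain ⟨k, hk⟩ := hP.map _ ⟨_, h1⟩
  exact ⟨k, (QuotientGroup.eq_one_iff _).1 ((map_pow (QuotientGroup.mk' K) x _).trans (congrArg Subtype.val hk))⟩

/-- a component of the normal subgroup `N` -/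
structure Cp (N X : Subgroup G) : Prop where
  le : X ≤ N
  qs : IsQuasisimple X
  gen : ∀ n ∈ N, ∃ a ∈ X, ∃ c ∈ centralizer (X : Set G), n = a * c
  conj : ∀ g : G, g ∈ normalizer (X : Set G) ∨ ∀ x ∈ X, ∀ y ∈ X, Commute (g * x * g⁻¹) y

section cmp

variable {S : Type} [Group S] {π : G →* S}

theorem cmpOf_qs' [Finite G] (hπ : Function.Surjective π) (hc : π.ker ≤ center G)
    {T : Subgroup S} [IsSimpleGroup T] (h : ∀ z ∈ T, (∀ t ∈ T, Commute z t) → z = 1) : IsQuasisimple (cmpOf π T) := by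
  obtain ⟨h1, h2⟩ := perfect_of_simple h
  let φ : cmpOf π T →* T := (π.comp (cmpOf π T).subtype).codRestrict T fun x => cmpOf_le π T x.2
  have hk : ∀ x ∈ φ.ker, (x : G) ∈ π.ker := fun x hx => congrArg Subtype.val (MonoidHom.mem_ker.1 hx)
  exact (H831.GenFit.quasisimple_of_ext h1 φ (fun t => by
      have h5 : (t : S) ∈ (cmpOf π T).map π := by rw [map_cmpOf hπ h2]; exact t.2
      obtain ⟨x, hx, h6⟩ := h5
      exact ⟨⟨x, hx⟩, Subtype.ext h6⟩)
    (fun x hx => mem_center_iff.2 fun y => Subtype.ext (mem_center_iff.1 (hc (hk x hx)) y))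
    (cmpOf_perfect hπ hc h2)).1

/-- **the components** -/
theorem exists_cp [Finite G] (hπ : Function.Surjective π) (hc : π.ker ≤ center G)
    (M : Subgroup S) [M.Normal] (hmin : ∀ K : Subgroup S, K.Normal → K ≤ M → K = ⊥ ∨ K = M)
    (hna : ¬ ∀ x ∈ M, ∀ y ∈ M, Commute x y) :
    ∃ s : Set (Subgroup G), (∀ X ∈ s, Cp (M.comap π) X) ∧ M.comap π ≤ π.ker ⊔ sSup s := by
  have : Finite S := Finite.of_surjective π hπ
  obtain ⟨-, -, hsup, hsim, hz, -⟩ := nonabelian_structure M hmin hna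
  have hcomm : ∀ X ∈ cmpOf π '' minSet M, ∀ Y ∈ cmpOf π '' minSet M, X ≠ Y → Y ≤ centralizer (X : Set G) := by
    rintro _ ⟨T, hT, rfl⟩ _ ⟨U, hU, rfl⟩ hne y hy
    rw [mem_centralizer_iff]
    intro x hx
    exact cmpOf_comm hc (minSet_comm hT hU fun h => hne (by rw [h])) hx (cmpOf_le π U hy)
  have hle : M.comap π ≤ π.ker ⊔ sSup (cmpOf π '' minSet M) := by
    rw [sup_comm, ← comap_map_eq]
    refine comap_mono (hsup.ge.trans (sSup_le fun T hT => ?_))
    have := hsim T hT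
    exact (map_cmpOf hπ (perfect_of_simple (hz T hT)).2).ge.trans (map_mono (le_sSup ⟨T, hT, rfl⟩))
  refine ⟨cmpOf π '' minSet M, ?_, hle⟩
  rintro _ ⟨T, hT, rfl⟩
  have := hsim T hT
  refine ⟨(cmpOf_le π T).trans (comap_mono hT.1), cmpOf_qs' hπ hc (hz T hT), fun n hn => ?_, fun g => ?_⟩
  · refine mem_sup_of_comm le_rfl ((hle.trans (sup_le ?_ (sSup_le fun Y hY => ?_))) hn)
    · exact le_sup_of_le_right (hc.trans (center_le_centralizer _))
    · by_cases h : cmpOf π T = Y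
      · exact le_sup_of_le_left h.ge
      · exact le_sup_of_le_right (hcomm _ ⟨T, hT, rfl⟩ Y hY h)
  · have h3 : ∀ l : G, π l ∈ T → π (g * l * g⁻¹) ∈ T.map (MulAut.conj (π g)).toMonoidHom := fun l hl =>
      ⟨π l, hl, by simp⟩
    by_cases h : T = T.map (MulAut.conj (π g)).toMonoidHom
    · left
      refine mem_normalizer_fintype fun x hx => ?_
      have h4 : (T.comap π).map (MulAut.conj g).toMonoidHom ≤ T.comap π := by
        rintro _ ⟨l, hl, rfl⟩
        have h5 := h3 l hl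
        rw [← h] at h5
        exact h5
      have h5 : (cmpOf π T).map (MulAut.conj g).toMonoidHom ≤ cmpOf π T := by
        rw [cmpOf, map_commutator]
        exact commutator_mono h4 h4
      exact h5 ⟨x, hx, rfl⟩
    · right
      intro x hx y hy
      exact (cmpOf_comm hc (minSet_comm hT (map_conj_mem_minSet hT (π g)) h) hy (h3 x (cmpOf_le π T hx))).symm

end cmp

section conf

variable {X Z R : Subgroup G}

theorem closure_le_iSup : normalClosure (X : Set G) ≤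
    ⨆ i : G ⧸ normalizer (X : Set G), ((MulAut.conj i.out).toMonoidHom.comp X.subtype).range := by
  rw [normalClosure, closure_le]
  intro y hy
  obtain ⟨x, hx, hc⟩ := Group.mem_conjugatesOfSet_iff.1 hy
  obtain ⟨h, rfl⟩ := isConj_iff.1 hc
  obtain ⟨i, hi⟩ := exists_out X h
  obtain ⟨y, hy, e⟩ := hi x hx
  exact mem_iSup_of_mem i ⟨⟨y, hy⟩, e.symm⟩

/-- the configuration of the conjugates of `X` -/
noncomputable def conf (hZ : Z ≤ center G) (ho : ¬ p ∣ Nat.card Z) (ih : IH p Z.index)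
    (h1 : ∀ g, g ∈ normalizer (X : Set G) ∨ ∀ x ∈ X, ∀ y ∈ X, Commute (g * x * g⁻¹) y)
    (h2 : ∀ g, (∀ h, ∀ x ∈ X, Commute g (h * x * h⁻¹)) → g ∈ Z) (hR : R.Normal) (hZR : Z ≤ R) (hXR : X ≤ R)
    (h3 : ∀ g ∈ R, ∃ k : ℕ, g ^ p ^ k ∈ Z ⊔ normalClosure X) (h4 : ¬ p ∣ R.index) :
    Conf p X.normalizerMonoidHom.range G Z (G ⧸ normalizer (X : Set G)) where
  e i := (MulAut.conj i.out).toMonoidHom.comp X.subtype
  π := MulAction.toPermHom G _
  a g i := X.normalizerMonoidHom ⟨_, out_mem X g i⟩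
  inj i := (MulAut.conj i.out).injective.comp X.subtype_injective
  ha g i x := by
    show g * (i.out * x * i.out⁻¹) * g⁻¹ = (g • i).out * ((g • i).out⁻¹ * (g * i.out) * x * ((g • i).out⁻¹ * (g * i.out))⁻¹) *
      (g • i).out⁻¹
    group
  mem g i := ⟨_, rfl⟩
  onto i j := by
    rintro _ ⟨n, rfl⟩
    have h : (j.out * n * i.out⁻¹) • i = j := (smul_eq_iff X).2 (by simp)
    exact ⟨_, h, congrArg _ (Subtype.ext (by simp [h]))⟩
  ne := ⟨(1 : G)⟩
  comm i j h x y := comm_out h1 h x.2 y.2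
  pie i x := Equiv.ext fun j => (smul_eq_iff X).2 (by
    show j.out⁻¹ * (i.out * x * i.out⁻¹ * j.out) ∈ _
    by_cases h : i = j
    · simpa [h] using le_normalizer x.2
    · refine centralizer_le_normalizer _ (mem_centralizer_iff.2 fun y hy => ?_)
      calc _ = j.out⁻¹ * (j.out * y * j.out⁻¹ * (i.out * x * i.out⁻¹)) * j.out := by group
        _ = _ := by rw [← comm_out h1 h x.2 hy]; group)
  cen := hZ
  ker g hg ha := h2 g fun h x hx => by
    obtain ⟨i, hi⟩ := exists_out X h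
    obtain ⟨y, hy, e⟩ := hi x hx
    have h5 : g • i = i := congrFun (congrArg DFunLike.coe hg) i
    have h6 := congrArg Subtype.val (DFunLike.congr_fun (ha i) ⟨y, hy⟩)
    change (g • i).out⁻¹ * (g * i.out) * y * ((g • i).out⁻¹ * (g * i.out))⁻¹ = y at h6
    rw [h5] at h6
    rw [e]
    show _ = _
    conv_rhs => rw [← h6]
    group
  cop := ho
  cl := ⟨R, hR, sup_le hZR (iSup_le fun i => by
      rintro _ ⟨x, rfl⟩
      exact hR.conj_mem _ (hXR x.2) _), fun g hg => (h3 g hg).imp fun k hk => sup_le_sup_left closure_le_iSup Z hk, h4⟩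
  ih := ih

theorem sit [Finite G] (hZ : Z ≤ center G) (ho : ¬ p ∣ Nat.card Z) (hd : p ∣ Nat.card X) (hc : IsCyclic Z) (ih : IH p Z.index) {L : Subgroup G} (c : Cp L X)
    (h2 : ∀ g, (∀ h, ∀ x ∈ X, Commute g (h * x * h⁻¹)) → g ∈ Z) (hR : R.Normal) (hXR : X ≤ R)
    (h3 : ∀ g ∈ R, ∃ k : ℕ, g ^ p ^ k ∈ L) (h4 : ¬ p ∣ R.index) : Sit p X X.normalizerMonoidHom.range := by
  have h5 : ∀ z ∈ center X, (z : G) ∈ Z := fun z hz => h2 z fun h x hx => by
    rcases c.conj h with e | e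
    · exact (congrArg Subtype.val (mem_center_iff.1 hz ⟨_, (mem_normalizer_iff.1 e x).1 hx⟩)).symm
    · exact (e x hx z z.2).symm
  have h6 : ∀ x : X, X.normalizerMonoidHom ⟨x, le_normalizer x.2⟩ = MulAut.conj x := fun _ => MulEquiv.ext fun _ => rfl
  have := normal_of_le_center hZ
  have h7 : Function.Injective ((X.subtype.comp (center X).subtype).codRestrict Z fun z => h5 _ z.2) :=
    fun a b e => Subtype.ext (Subtype.ext (congrArg (fun z : Z => (z : G)) e))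
  refine ⟨c.qs, nd_of_dvd ho (card_dvd_of_injective _ h7), hd, isCyclic_of_injective _ h7, fun x => ⟨_, h6 x⟩, ?_,
    ⟨(R.subgroupOf _).map X.normalizerMonoidHom, map_le_range _ _, fun x => ⟨_, hXR x.2, h6 x⟩, ?_, ?_, ?_⟩, ih.mono ?_⟩
  · rintro _ ⟨n, rfl⟩ z hz
    refine Subtype.ext ?_
    show (n : G) * z * (n : G)⁻¹ = z
    rw [mem_center_iff.1 (hZ (h5 z hz)), mul_inv_cancel_right]
  · rintro _ ⟨n, rfl⟩ _ ⟨r, hr, rfl⟩
    exact ⟨n * r * n⁻¹, hR.conj_mem _ hr n, by rw [map_mul, map_mul, map_inv]⟩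
  · rintro _ ⟨r, hr, rfl⟩
    obtain ⟨k, hk⟩ := h3 r hr
    obtain ⟨a, ha, b, hb, e⟩ := c.gen _ hk
    refine ⟨k, ⟨a, ha⟩, MulEquiv.ext fun x => Subtype.ext ?_⟩
    rw [← map_pow]
    show (r : G) ^ p ^ k * x * ((r : G) ^ p ^ k)⁻¹ = a * x * a⁻¹
    rw [e, mul_assoc a, ← mem_centralizer_iff.1 hb x x.2]
    group
  · rw [MonoidHom.range_eq_map, relIndex_map_map, top_sup_eq, relIndex_top_right]
    exact nd_of_dvd h4 ((index_dvd_of_le le_sup_left).trans (relIndex_dvd_index_of_normal R _))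
  · rw [← index_ker]
    refine Nat.le_of_dvd (Nat.pos_of_ne_zero index_ne_zero_of_finite)
      ((index_dvd_of_le ?_).trans (relIndex_dvd_index_of_normal Z (normalizer (X : Set G))))
    rw [normalizerMonoidHom_ker]
    exact comap_mono (hZ.trans (center_le_centralizer _))

end conf

variable [hp : Fact p.Prime]

theorem psolv_of [Finite G] {Z L : Subgroup G} [hZ : Z.Normal] [hL : L.Normal] (P : Sylow p G) (hZL : Z ≤ L) (ho : ¬ p ∣ Nat.card Z)
    (hn : (L ⊔ (P : Subgroup G)).Normal) (h : (∃ m, Z.relIndex L = p ^ m) ∨ ¬ p ∣ Z.relIndex L) : IsPSolvable p G := by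
  refine ⟨4, ![⊥, Z, L, L ⊔ P, ⊤], rfl, rfl, Fin.monotone_iff_le_succ.2 fun i => ?_, fun i => ?_, fun i => ?_⟩
  · fin_cases i
    exacts [bot_le, hZL, le_sup_left, le_top]
  · fin_cases i
    exacts [normal_bot, hZ, hL, hn, normal_top]
  · fin_cases i
    · exact .inr (hp.out.coprime_iff_not_dvd.2 (relIndex_bot_left Z ▸ ho)).symm
    · exact h.imp_right fun h => (hp.out.coprime_iff_not_dvd.2 h).symm
    · obtain ⟨k, hk⟩ := IsPGroup.iff_card.1 P.isPGroup'
      obtain ⟨j, -, hj⟩ := (Nat.dvd_prime_pow hp.out).1 (hk ▸ relIndex_dvd_card L (P : Subgroup G))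
      exact .inl ⟨j, (relIndex_sup_left (P : Subgroup G) L).trans hj⟩
    · refine .inr (hp.out.coprime_iff_not_dvd.2 fun h => P.not_dvd_index ?_).symm
      exact h.trans ((relIndex_top_right _).dvd.trans (index_dvd_of_le le_sup_right))

/-- **the critical groups** -/
theorem exists_conf [Finite G] {S : Type} [Group S] {π : G →* S} (hπ : Function.Surjective π) (hZ : π.ker ≤ center G)
    (ho : ¬ p ∣ Nat.card π.ker) (hc : IsCyclic π.ker) (ih : IH p π.ker.index) (P : Sylow p G)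
    (hP : ∀ K : Subgroup G, K.Normal → π.ker < K → (K ⊔ (P : Subgroup G)).Normal) (hs : ¬ IsPSolvable p G) :
    ∃ (X : Subgroup G) (Γ : Subgroup (MulAut X)) (ι : Type) (_ : Finite ι) (_ : Conf p Γ G π.ker ι), Sit p X Γ := by
  have := Finite.of_surjective π hπ
  have hlt : ∀ M : Subgroup S, M ≠ ⊥ → π.ker < M.comap π := fun M hM =>
    lt_of_le_of_ne (ker_le_comap _ _) fun e => hM (by
      rw [← map_comap_eq_self_of_surjective hπ M, ← e, Subgroup.map_eq_bot_iff])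
  have hodd : ∀ K : Subgroup G, ¬ p ∣ (K ⊔ (P : Subgroup G)).index := fun K =>
    nd_of_dvd P.not_dvd_index (index_dvd_of_le le_sup_right)
  obtain ⟨M, -, hM0, hM, hmin'⟩ := exists_minimal_normal_le (⊤ : Subgroup S) fun h => hs (psolv_of (L := π.ker) P le_rfl ho
    (by rw [← MonoidHom.comap_bot, ← h, comap_top, top_sup_eq]; infer_instance) (.inl ⟨0, relIndex_self _⟩))
  have hM : M.Normal := normalizer_eq_top_iff.1 (eq_top_iff.2 hM)
  have hmin : ∀ K : Subgroup S, K.Normal → K ≤ M → K = ⊥ ∨ K = M := fun K h1 h2 => hmin' K h2 (normalizer_eq_top K).ge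
  have hi : π.ker.relIndex (M.comap π) = Nat.card M := by
    rw [← relIndex_bot_left, ← MonoidHom.comap_bot, relIndex_comap, map_comap_eq_self_of_surjective hπ]
  have h0 := fun h => hs (psolv_of P (hlt M hM0).le ho (hP _ inferInstance (hlt M hM0)) h)
  rw [hi] at h0
  have hna : ¬ ∀ x ∈ M, ∀ y ∈ M, Commute x y := fun h => by
    obtain ⟨r, hr, h1, -⟩ := abelian_structure M hM0 hmin h
    have := Fact.mk hr
    obtain ⟨k, h2⟩ := IsPGroup.iff_card.1 h1
    exact h0 ((eq_or_ne p r).imp (fun e => ⟨k, by rw [h2, e]⟩) fun e =>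
      h2 ▸ nd_pow (fun h3 => e ((Nat.prime_dvd_prime_iff_eq hp.out hr).1 h3)) k)
  have hC : centralizer (M : Set S) = ⊥ := by
    by_contra h
    have := hP _ inferInstance (hlt _ h)
    have h1 := Normal.map this π hπ
    rcases hmin (M ⊓ ((centralizer (M : Set S)).comap π ⊔ (P : Subgroup G)).map π) inferInstance inf_le_left with e | e
    · refine h0 (.inr (nd_of_dvd (hodd ((centralizer (M : Set S)).comap π)) ?_))
      rw [← relIndex_bot_left, ← e, inf_relIndex_left]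
      exact (relIndex_dvd_index_of_normal _ _).trans (index_map_dvd _ hπ)
    · refine h0 (.inl (IsPGroup.iff_card.1 fun x => ?_))
      obtain ⟨y, hy, h2⟩ := (e.ge x.2).2
      obtain ⟨k, h3⟩ := pow_mem_of_sup P.isPGroup' hy
      rcases hmin (M ⊓ centralizer (M : Set S)) inferInstance inf_le_left with e' | e'
      · exact ⟨k, Subtype.ext (e'.le ⟨(x ^ p ^ k).2, by rwa [mem_comap, map_pow, h2] at h3⟩)⟩
      · exact absurd (fun a ha b hb => mem_centralizer_iff.1 (e'.ge hb).2 a ha) hna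
  obtain ⟨s, h1, h2⟩ := exists_cp hπ hZ M hmin hna
  obtain ⟨X, hX⟩ : s.Nonempty := Set.nonempty_iff_ne_empty.2 fun e => (hlt M hM0).not_ge (by simpa [e] using h2)
  have c := h1 X hX
  have h3 : (normalClosure (X : Set G)).map π = M := by
    refine (hmin _ (Normal.map inferInstance π hπ) (map_le_iff_le_comap.2 (normalClosure_le_normal c.le))).resolve_left
      fun e => ?_
    have h4 : center X = ⊤ := eq_top_iff.2 fun x _ => mem_center_iff.2 fun y => Subtype.ext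
      (mem_center_iff.1 (hZ ((Subgroup.map_eq_bot_iff _).1 e (le_normalClosure x.2))) y)
    have := c.qs.2
    exact not_subsingleton (X ⧸ center X) (by rw [h4]; exact QuotientGroup.subsingleton_quotient_top)
  have h4 : ∀ g, (∀ h, ∀ x ∈ X, Commute g (h * x * h⁻¹)) → g ∈ π.ker := fun g hg => by
    have h5 : normalClosure (X : Set G) ≤ centralizer {g} := by
      rw [normalClosure, closure_le]
      intro y hy
      obtain ⟨x, hx, hc⟩ := Group.mem_conjugatesOfSet_iff.1 hy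
      obtain ⟨h, rfl⟩ := isConj_iff.1 hc
      exact mem_centralizer_singleton_iff.2 (hg h x hx).symm
    refine hC.le (mem_centralizer_iff.2 ?_)
    rw [← h3]
    rintro _ ⟨y, hy, rfl⟩
    rw [← map_mul, ← map_mul, mem_centralizer_singleton_iff.1 (h5 hy)]
  have h5 : ∀ g ∈ M.comap π ⊔ (P : Subgroup G), ∃ k : ℕ, g ^ p ^ k ∈ M.comap π := fun g => pow_mem_of_sup P.isPGroup'
  have hn := hP _ inferInstance (hlt M hM0)
  let cf := conf hZ ho ih c.conj h4 hn ((hlt M hM0).le.trans le_sup_left) (c.le.trans le_sup_left)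
    (fun g hg => by rw [sup_comm, ← comap_map_eq, h3]; exact h5 g hg) (hodd _)
  have h6 : p ∣ Nat.card X := by
    have := Fintype.ofFinite (G ⧸ normalizer (X : Set G))
    have h7 : normalClosure (X : Set G) ≤ (H.pr cf).range := (H.range_pr cf).symm ▸ closure_le_iSup
    have h8 : Nat.card M ∣ Nat.card (G ⧸ normalizer (X : Set G) → X) := by
      rw [← h3]
      exact (card_map_dvd _ _).trans ((card_dvd_of_le h7).trans (card_range_dvd _))
    rw [Nat.card_fun] at h8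
    by_contra h9
    exact h0 (.inr (nd_of_dvd (nd_pow h9 _) h8))
  exact ⟨X, _, _, inferInstance, cf, sit hZ ho h6 hc ih c h4 hn (c.le.trans le_sup_left) h5 (hodd _)⟩

end Cfsg.Agent.MO.R
end

-- part: MO/R/Main
section
/-!
# MO, the reduction (helper76, from `MK`)

`red : Red`, and `s4815_of` : the statement of S4815 from `∀ n, IH p n`.
-/

set_option autoImplicit false
set_option maxHeartbeats 400000

namespace Cfsg.Agent.MO.R

open Cfsg Subgroup Cfsg.Agent.Characters.Core Cfsg.Agent.H672 Cfsg.Agent.H672.RM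

open Cfsg.Agent.MK (Ov Fa)
open Cfsg.Agent.MK.R (normal_of_le_center)

variable {p : ℕ} [hp : Fact p.Prime] {G : Type} [Group G] [Finite G]

theorem cop_rel (P : Sylow p G) {H : Subgroup G} (h : (P : Subgroup G) ≤ H) : ¬ p ∣ (P : Subgroup G).relIndex H :=
  nd_of_dvd P.not_dvd_index (relIndex_dvd_index_of_le h)

/-- the case of a faithful character of a cyclic group of `p'`-order -/
theorem mck_cop (hC : Crit p) {Z : Subgroup G} (hZ : Z ≤ center G) (ho : ¬ p ∣ Nat.card Z) (hc : IsCyclic Z)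
    (ih : IH p Z.index) {l : G → ℂ} (hl : Fa Z l) (P : Sylow p G) :
    kk p ⊤ Z l = kk p (normalizer ((P : Subgroup G) : Set G)) Z l := by
  have := normal_of_le_center hZ
  by_cases h : ∀ K : Subgroup G, K.Normal → Z < K → (K ⊔ (P : Subgroup G)).Normal
  · by_cases hs : IsPSolvable p G
    · refine kk_eq_of_cnt hZ le_top (hZ.trans (center_le_normalizer _)) fun m _ => ?_
      rw [cnt_top rfl]
      exact (relative_mckay (centralCase_of fun Z K hZ hK hZK hd S hKS lam N hN hZN =>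
        H676.RM.central_case p Z K hZ hZK hd S hKS lam N hN hZN) hs Z P _ rfl (le_sup_left.trans le_normalizer) (isIrr_lf m)
        fun g _ => stab_lf_of_central hZ m g).trans (cnt_eq_of_eq _ _ (normalizer_eq_of_central hZ
          ⟨le_top, P.isPGroup', (relIndex_top_right (P : Subgroup G)).symm ▸ P.not_dvd_index⟩).symm _)
    · have e := QuotientGroup.ker_mk' Z
      obtain ⟨X, Γ, ι, _, c, s⟩ := exists_conf (QuotientGroup.mk'_surjective Z) (e.symm ▸ hZ) (e.symm ▸ ho) (e.symm ▸ hc)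
        (e.symm ▸ ih) P (e.symm ▸ h) hs
      have := Fintype.ofFinite ι
      exact hC X Γ G Z ι (e ▸ c) s l hl P
  · push Not at h
    obtain ⟨K, hK, hZK, hn⟩ := h
    rw [kk_step hZ ih hZK P l, ih.nm (fun z hz k _ => mem_center_iff.1 (hZ hz) k) ?_ (le_sup_right.trans le_normalizer)
      P.isPGroup' (cop_rel P (le_sup_right.trans le_normalizer)), inf_eq_right.2 normalizer_sup_le]
    rw [← relIndex_top_right]
    exact relIndex_lt_of_lt (hZ.trans (center_le_normalizer _)) (lt_top_iff_ne_top.2 fun e => hn (normalizer_eq_top_iff.1 e))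

omit hp [Finite G] in
/-- multiplication by a linear character -/
theorem kk_twist (H Z : Subgroup G) (l : G → ℂ) (μ : G →* ℂˣ) : kk p H Z l = kk p H Z fun g => μ g * l g := by
  have key : ∀ (l : G → ℂ) (μ : G →* ℂˣ) (ψ : H → ℂ), PI p H ψ ∧ Ov H Z l ψ →
      PI p H (fun h => μ h * ψ h) ∧ Ov H Z (fun g => μ g * l g) fun h => μ h * ψ h := fun l μ ψ h =>
    ⟨⟨ODD.Red.isIrr_lin_mul (μ.comp H.subtype) h.1.1, by
      rw [ODD.Red.charDegree_congr (ψ := ψ) (by simp)]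
      exact h.1.2⟩, fun x hx => by simp [h.2 x hx, mul_assoc]⟩
  refine Nat.card_congr
    { toFun := fun ψ => ⟨_, key l μ ψ.1 ψ.2⟩
      invFun := fun ψ => ⟨fun h => μ⁻¹ h * ψ.1 h, by simpa using key _ μ⁻¹ ψ.1 ψ.2⟩
      left_inv := fun ψ => Subtype.ext (funext fun h => by simp)
      right_inv := fun ψ => Subtype.ext (funext fun h => by simp) }

/-- the determinant and the transfer: the `p`-part of the central character extends to `G` -/
theorem exists_twist {Z H : Subgroup G} (hZ : Z ≤ center G) (hZH : Z ≤ H) (hi : ¬ p ∣ H.index) {l : G → ℂ} {ψ : H → ℂ}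
    (h1 : PI p H ψ) (h2 : Ov H Z l ψ) : ∃ (μ : G →* ℂˣ) (b : ℕ), ¬ p ∣ b ∧ ∀ z ∈ Z, (μ z * l z) ^ b = 1 := by
  obtain ⟨a, b, hb, hab⟩ := exists_split p (Nat.card_pos (α := Z)).ne'
  obtain ⟨u, hu⟩ : ∃ u, p ^ a ∣ (charDegree ψ * H.index) * u + 1 := by
    obtain ⟨u, -, hu⟩ := Nat.exists_mul_mod_eq_of_coprime (p ^ a - 1)
      (cop_pow (nd_mul' h1.2 hi) a).symm (pow_pos hp.out.pos a).ne'
    refine ⟨u, (Nat.modEq_zero_iff_dvd).1 ((Nat.ModEq.add_right 1 hu).trans ?_)⟩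
    rw [Nat.sub_add_cancel (pow_pos hp.out.pos a)]
    exact Nat.modEq_zero_iff_dvd.2 dvd_rfl
  refine ⟨MonoidHom.transfer (ODD.Red.dH ψ) ^ u, b, hb, fun z hz => ?_⟩
  obtain ⟨c, hc, hk, hd⟩ := ODD.Red.exists_central h1.1 (z := ⟨z, hZH hz⟩)
    (mem_center_iff.2 fun g => Subtype.ext (mem_center_iff.1 (hZ hz) g))
  have e : l z = c := mul_right_cancel₀ h1.one_ne ((h2 ⟨z, hZH hz⟩ hz).symm.trans (by simpa using hc 1))
  have e2 : MonoidHom.transfer (ODD.Red.dH ψ) z = ODD.Red.dH ψ ⟨z, hZH hz⟩ ^ H.index := by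
    rw [MonoidHom.transfer_eq_pow _ z fun k g _ => by
      rw [mul_assoc, ← mem_center_iff.1 (pow_mem (hZ hz) k) g, inv_mul_cancel_left], ← map_pow]
    rfl
  obtain ⟨v, hv⟩ := hu
  rw [MonoidHom.pow_apply, e2, e, Units.val_pow_eq_pow_val, Units.val_pow_eq_pow_val, hd, ← pow_mul, ← pow_mul, ← pow_succ,
    ← mul_assoc, hv, ← pow_mul, mul_right_comm, ← hab, pow_mul, hk _ (Subtype.ext ?_), one_pow]
  have e3 := congrArg Subtype.val (pow_card_eq_one' (x := (⟨z, hz⟩ : Z)))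
  exact e3

/-- a central character of `p'`-order -/
theorem mck_ord (hC : Crit p) {Z : Subgroup G} (hZ : Z ≤ center G) (ih : IH p Z.index) {l : G → ℂ} {b : ℕ} (hb : ¬ p ∣ b)
    (hl : ∀ z ∈ Z, l z ^ b = 1) (P : Sylow p G) : kk p ⊤ Z l = kk p (normalizer ((P : Subgroup G) : Set G)) Z l := by
  refine kk_eq_of_hom hZ le_top (hZ.trans (center_le_normalizer _)) fun m hm => ?_
  have hK : m.ker.map Z.subtype ≤ Z := map_subtype_le _
  have := normal_of_le_center (hK.trans hZ)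
  set f := QuotientGroup.mk' (m.ker.map Z.subtype)
  have hf : Function.Surjective f := QuotientGroup.mk'_surjective _
  have hk : f.ker = m.ker.map Z.subtype := QuotientGroup.ker_mk' _
  have hZf : (Z.map f).comap f = Z := comap_map_eq_self (hk.le.trans hK)
  obtain ⟨l', hl'⟩ : ∃ l' : G ⧸ m.ker.map Z.subtype → ℂ, ∀ z ∈ Z, l' (f z) = l z := by
    refine ⟨fun q => l q.out, fun z hz => ?_⟩
    obtain ⟨⟨_, y, hy, rfl⟩, e⟩ := QuotientGroup.mk_out_eq_mul (m.ker.map Z.subtype) z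
    change l (z : G ⧸ m.ker.map Z.subtype).out = _
    rw [e]
    refine (hm (⟨z, hz⟩ * y)).trans ?_
    rw [map_mul, MonoidHom.mem_ker.1 hy, mul_one, ← hm]
  have h1 : ∀ H : Subgroup G, kk p (H.map f) (Z.map f) l' = kk p H Z l := fun H =>
    kk_map f (fun h _ => by rw [← mem_comap, hZf]) fun h _ => hl' h
  have h2 : ∀ z ∈ Z, l z = 1 → f z = 1 := fun z hz e =>
    hk.ge ⟨⟨z, hz⟩, Units.ext ((hm ⟨z, hz⟩).symm.trans e), rfl⟩
  let m' : Z.map f →* ℂ :=
    { toFun := fun z => l' z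
      map_one' := (hl' 1 (one_mem Z)).trans ((hm 1).trans (by simp))
      map_mul' := by
        rintro ⟨_, x, hx, rfl⟩ ⟨_, y, hy, rfl⟩
        refine (hl' (x * y) (mul_mem hx hy)).trans ((hm (⟨x, hx⟩ * ⟨y, hy⟩)).trans ?_)
        rw [hl' x hx, hl' y hy, map_mul, Units.val_mul, ← hm, ← hm] }
  have hfa : Fa (Z.map f) l' := by
    rintro _ ⟨z, hz, rfl⟩ e
    exact h2 z hz ((hl' z hz).symm.trans e)
  have h3 := mck_cop hC (Z := Z.map f) (l := l') (by
      rintro _ ⟨z, hz, rfl⟩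
      refine mem_center_iff.2 fun g => ?_
      obtain ⟨g, rfl⟩ := hf g
      rw [← map_mul, ← map_mul, mem_center_iff.1 (hZ hz) g]) (by
      intro e
      obtain ⟨⟨_, z, hz, rfl⟩, e⟩ := exists_prime_orderOf_dvd_card' p e
      refine hb (e ▸ orderOf_dvd_of_pow_eq_one (Subtype.ext ((map_pow f z b).symm.trans (h2 _ (pow_mem hz b) ?_))))
      rw [← hl z hz, hm ⟨z, hz⟩, ← Units.val_pow_eq_pow_val, ← map_pow]
      exact hm (⟨z, hz⟩ ^ b))
    (isCyclic_of_injective_ringHom m' ((injective_iff_map_eq_one m').2 fun z e => Subtype.ext (hfa z z.2 e)))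
    (by rwa [← index_comap_of_surjective _ hf, hZf]) hfa (P.mapSurjective hf)
  rw [← h1, ← h1, map_top_of_surjective f hf, h3, ← map_comap_eq_self_of_surjective hf (normalizer _),
    comap_normalizer_eq_of_surjective _ hf, Sylow.coe_mapSurjective, comap_map_eq, sup_comm, hk,
    ← normalizer_eq_of_central (hK.trans hZ)
      ⟨le_top, P.isPGroup', (relIndex_top_right (P : Subgroup G)).symm ▸ P.not_dvd_index⟩]

theorem mck (hC : Crit p) {Z : Subgroup G} (hZ : Z ≤ center G) (ih : IH p Z.index) : McK p G Z := by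
  intro l P
  by_cases h : ∃ (μ : G →* ℂˣ) (b : ℕ), ¬ p ∣ b ∧ ∀ z ∈ Z, (μ z * l z) ^ b = 1
  · obtain ⟨μ, b, hb, h⟩ := h
    rw [kk_twist _ Z l μ, kk_twist _ Z l μ]
    exact mck_ord hC hZ ih hb h P
  · have h0 : ∀ H : Subgroup G, Z ≤ H → (P : Subgroup G) ≤ H → kk p H Z l = 0 := fun H h1 h2 =>
      Nat.card_eq_zero.2 (.inl ⟨fun ψ => h (exists_twist hZ h1 (nd_of_dvd P.not_dvd_index (index_dvd_of_le h2)) ψ.2.1 ψ.2.2)⟩)
    rw [h0 _ le_top le_top, h0 _ (hZ.trans (center_le_normalizer _)) le_normalizer]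

/-- **the reduction** -/
theorem red : Red p := fun hC n => by
  induction n with
  | zero => exact fun _ _ _ _ _ h => absurd h (Nat.not_lt_zero _)
  | succ n ih => exact fun G _ _ Z hZ h => mck hC hZ (ih.mono (Nat.lt_succ_iff.1 h))

omit hp in
theorem kk_bot {H : Subgroup G} {A : Type*} [Group A] [Finite A] (e : H ≃* A) :
    kk p H ⊥ 1 = Nat.card {χ : IrrCharacter A // ¬ p ∣ charDegree (χ : A → ℂ)} := by
  refine Eq.trans (b := Nat.card {χ : IrrCharacter H // ¬ p ∣ charDegree (χ : H → ℂ)}) ?_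
    (Nat.card_congr ((irrEquiv e).subtypeEquiv fun χ => by
      rw [show charDegree ((irrEquiv e χ : IrrCharacter H) : H → ℂ) = charDegree (χ : A → ℂ) from
        charDegree_comp_one e.toMonoidHom _])).symm
  exact Nat.card_congr
    { toFun := fun ψ => ⟨⟨ψ.1, ψ.2.1.1⟩, ψ.2.1.2⟩
      invFun := fun χ => ⟨χ.1.1, ⟨χ.1.2, χ.2⟩, fun h hh => by rw [show h = 1 from Subtype.ext hh, Pi.one_apply, one_mul]⟩
      left_inv := fun _ => rfl
      right_inv := fun _ => rfl }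

/-- **the statement of S4815** -/
theorem s4815_of (h : ∀ n, IH p n) {A : Type*} [Group A] [Finite A] (P : Sylow p A) :
    Nat.card {χ : IrrCharacter A // ¬ p ∣ charDegree (χ : A → ℂ)} =
      Nat.card {ψ : IrrCharacter (normalizer ((P : Subgroup A) : Set A)) //
        ¬ p ∣ charDegree (ψ : normalizer ((P : Subgroup A) : Set A) → ℂ)} := by
  obtain ⟨G, _, ⟨e⟩⟩ := Lib.MinNormal.exists_type_zero_model A
  have := Finite.of_equiv _ e.toEquiv.symm
  have h1 := h _ G ⊥ bot_le (Nat.lt_succ_self _) 1 (P.mapSurjective (f := e.symm.toMonoidHom) e.symm.surjective)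
  rw [kk_bot (topEquiv.trans e)] at h1
  exact h1.trans (kk_bot ((e.symm.subgroupMap _).trans
    (MulEquiv.subgroupCongr (map_equiv_normalizer_eq (P : Subgroup A) e.symm))).symm)

end Cfsg.Agent.MO.R
end

-- part: MO/Steps
section
/-!
# MO: all general steps; the equality from `AllGd` (helper76)

* `steps : Steps p`;
* `ih_of : AllGd p → ∀ n, IH p n`, `mckay_of` : the statement of S4815 for the prime `p` from `AllGd p`.
-/

set_option autoImplicit false

namespace Cfsg.Agent.MO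

open Cfsg Subgroup

variable {p : ℕ} [Fact p.Prime]

theorem steps : Steps p where
  i := H.stepI
  y := H.stepY MK.Y.core
  c := C.stepC
  cyc := E.stepCyc C.stepC
  sm := E.stepSm (E.stepCyc C.stepC)
  core := MK.Y.core

theorem ih_of (h : AllGd p) : ∀ n, IH p n := R.red (H.stepF h)

theorem mckay_of (h : AllGd p) {A : Type*} [Group A] [Finite A] (P : Sylow p A) :
    Nat.card {χ : IrrCharacter A // ¬ p ∣ charDegree (χ : A → ℂ)} =
      Nat.card {ψ : IrrCharacter (normalizer ((P : Subgroup A) : Set A)) //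
        ¬ p ∣ charDegree (ψ : normalizer ((P : Subgroup A) : Set A) → ℂ)} :=
  R.s4815_of (ih_of h) P

end Cfsg.Agent.MO
end

private theorem dce_fd27203e973e : _root_.True := by
  try have : _root_.True := by simp only [_root_.Cfsg.Agent.MO.H.la.eq_1]
  try have : _root_.True := by simp only [_root_.Cfsg.Agent.MO.H.hl.eq_1]
  exact _root_.True.intro
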